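import Mathlib
import Groth.Prelude.Def_AlgGrp
import Groth.Agent.Lib.Helper24.NFT.NeutralBC
import Groth.Agent.Lib.Helper4.QuotAffine

/-!
# The kernel of a homomorphism as the fibre over the unit section, and its base change
-/

set_option autoImplicit false
universe u

open CategoryTheory MonoidalCategory CartesianMonoidalCategory MonObj GrpObj AlgebraicGeometry Limits

namespace Groth.Agent.Lib.Helper24.HomArt

open Groth.Agent.Lib.Helper24.NFT

variable {S : Scheme.{u}} {G H : Over S} [GrpObj H]

instance mono_unit_left : Mono η[H].left := by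
  have h : η[H].left ≫ H.hom = (𝟙_ (Over S)).hom := Over.w η[H]
  haveI : Mono (η[H].left ≫ H.hom) := by rw [h]; infer_instance
  exact mono_of_mono η[H].left H.hom

/-- the kernel (fibre over the unit section) as an object over `S` -/
noncomputable def kerObj (u : G ⟶ H) : Over S := Over.mk (pullback.fst u.left η[H].left ≫ G.hom)

/-- the inclusion of the kernel -/
noncomputable def kerι (u : G ⟶ H) : kerObj u ⟶ G := Over.homMk (pullback.fst u.left η[H].left) rfl

theorem kerObj_hom (u : G ⟶ H) :
    (kerObj u).hom = pullback.snd u.left η[H].left ≫ (𝟙_ (Over S)).hom := by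
  change pullback.fst u.left η[H].left ≫ G.hom = _
  rw [← Over.w u, pullback.condition_assoc, Over.w η[H]]

theorem toUnit_kerObj_left (u : G ⟶ H) :
    (toUnit (kerObj u)).left = pullback.snd u.left η[H].left := by
  have h1 : (toUnit (kerObj u)).left ≫ (𝟙_ (Over S)).hom =
      pullback.snd u.left η[H].left ≫ (𝟙_ (Over S)).hom := by
    rw [Over.w (toUnit (kerObj u)), kerObj_hom]
  exact (cancel_mono (𝟙_ (Over S)).hom).1 h1

instance (u : G ⟶ H) : Mono (kerι u).left :=
  inferInstanceAs (Mono (pullback.fst u.left η[H].left))

instance (u : G ⟶ H) : Mono (kerι u) := Over.mono_of_mono_left _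

theorem isKernel_kerι (u : G ⟶ H) : AlgGrp.IsKernel (kerι u) u := by
  unfold AlgGrp.IsKernel
  refine IsPullback.of_map (Over.forget S) ?_ ?_
  · apply Over.OverMorphism.ext
    rw [Over.comp_left, Over.comp_left, toUnit_kerObj_left]
    exact pullback.condition
  · change IsPullback (pullback.fst u.left η[H].left) (toUnit (kerObj u)).left u.left η[H].left
    rw [toUnit_kerObj_left]
    exact IsPullback.of_hasPullback _ _

section bc

variable {S' : Scheme.{u}} (g : S' ⟶ S) (u : G ⟶ H)

/-- the kernel of the base change is the base change of the kernel -/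
theorem exists_isPullback_ker_bc :
    ∃ φ : pullback ((Over.pullback g).map u).left η[Red.bc g H].left ⟶ pullback u.left η[H].left,
      IsPullback φ (pullback.snd ((Over.pullback g).map u).left η[Red.bc g H].left)
        (pullback.snd u.left η[H].left) g := by
  let u' := (Over.pullback g).map u
  have sq : IsPullback u'.left (pullback.fst G.hom g) (pullback.fst H.hom g) u.left :=
    Groth.Agent.Lib.Helper24.HomogSep.isPullback_pullback_map g u
  have hη : η[Red.bc g H].left ≫ pullback.fst H.hom g = g ≫ η[H].left := unitSec_bc_fst H g
  have big : IsPullback (pullback.fst u'.left η[Red.bc g H].left ≫ pullback.fst G.hom g)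
      (pullback.snd u'.left η[Red.bc g H].left) u.left (g ≫ η[H].left) := by
    rw [← hη]
    exact (IsPullback.of_hasPullback u'.left η[Red.bc g H].left).paste_horiz sq.flip
  let φ : pullback u'.left η[Red.bc g H].left ⟶ pullback u.left η[H].left :=
    pullback.lift (pullback.fst u'.left η[Red.bc g H].left ≫ pullback.fst G.hom g)
      (pullback.snd u'.left η[Red.bc g H].left ≫ g) (by rw [Category.assoc]; exact big.w)
  refine ⟨φ, ?_⟩
  refine IsPullback.of_right ?_ (pullback.lift_snd _ _ _) (IsPullback.of_hasPullback u.left η[H].left)
  rw [pullback.lift_fst]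
  exact big

end bc

end Groth.Agent.Lib.Helper24.HomArt
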