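import Mathlib
import Groth.Agent.Lib.Helper24.HomogSep.Red
import Groth.Agent.Lib.Helper24.AntiAff.ImageGroup
import Groth.Agent.Lib.Helper3.RedGrp

/-!
# The reduced subgroup scheme of a group scheme over a perfect field
-/

set_option autoImplicit false
universe u

open CategoryTheory MonoidalCategory CartesianMonoidalCategory MonObj GrpObj AlgebraicGeometry Limits

namespace Groth.Agent.Lib.Helper24.HomArt

open Groth.Agent.Lib.Helper24.HomogSep

section transport

variable {𝒯 : Type*} [Category 𝒯] [CartesianMonoidalCategory 𝒯]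

/-- a morphism whose composite with a monomorphic homomorphism is a homomorphism is a
homomorphism -/
theorem isMonHom_of_comp_mono {A B C : 𝒯} [MonObj A] [MonObj B] [MonObj C] (f : A ⟶ B) (j : B ⟶ C)
    [Mono j] [IsMonHom j] [IsMonHom (f ≫ j)] : IsMonHom f where
  one_hom := by
    rw [← cancel_mono j, Category.assoc, IsMonHom.one_hom (f := f ≫ j), IsMonHom.one_hom]
  mul_hom := by
    rw [← cancel_mono j, Category.assoc, IsMonHom.mul_hom (f := f ≫ j), Category.assoc,
      IsMonHom.mul_hom, tensorHom_comp_tensorHom_assoc]

end transport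

variable {k : Type u} [Field k] (G : Over (Spec (CommRingCat.of k)))

/-- the reduced subscheme, as a `k`-scheme -/
noncomputable def redGrp : Over (Spec (CommRingCat.of k)) := Over.mk (redι G.left ≫ G.hom)

/-- the inclusion of the reduced subscheme -/
noncomputable def redGrpι : redGrp G ⟶ G := Over.homMk (redι G.left) rfl

instance : IsReduced (redGrp G).left := inferInstanceAs (IsReduced (red G.left))

instance : IsClosedImmersion (redGrpι G).left := by
  change IsClosedImmersion (redι G.left)
  refine IsClosedImmersion.of_isPreimmersion _ ?_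
  rw [range_redι]
  exact isClosed_univ

instance : Surjective (redGrpι G).left := ⟨surjective_redι G.left⟩

instance : Mono (redGrpι G) := by
  haveI : Mono (redGrpι G).left := inferInstance
  exact Over.mono_of_mono_left _

instance [LocallyOfFiniteType G.hom] : LocallyOfFiniteType (redGrp G).hom := by
  change LocallyOfFiniteType (redι G.left ≫ G.hom)
  haveI : IsClosedImmersion (redι G.left) :=
    inferInstanceAs (IsClosedImmersion (redGrpι G).left)
  infer_instance

variable [PerfectField k] [GrpObj G]

/-- the group structure on the reduced subscheme (perfect base field) -/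
noncomputable instance instGrpObjRedGrp : GrpObj (redGrp G) :=
  Groth.Agent.Lib.Helper24.AntiAff.grpObjOfMono (redGrpι G)
    (Classical.choose (Groth.Agent.Lib.Helper3.RedGrp.mainGrp k G (redGrp G) (redGrpι G)).2.2)
    (Classical.choose_spec (Groth.Agent.Lib.Helper3.RedGrp.mainGrp k G (redGrp G) (redGrpι G)).2.2)
    (Classical.choose (Groth.Agent.Lib.Helper3.RedGrp.mainGrp k G (redGrp G) (redGrpι G)).1)
    (Classical.choose_spec (Groth.Agent.Lib.Helper3.RedGrp.mainGrp k G (redGrp G) (redGrpι G)).1)
    (Classical.choose (Groth.Agent.Lib.Helper3.RedGrp.mainGrp k G (redGrp G) (redGrpι G)).2.1)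
    (Classical.choose_spec (Groth.Agent.Lib.Helper3.RedGrp.mainGrp k G (redGrp G) (redGrpι G)).2.1)

instance : IsMonHom (redGrpι G) where
  one_hom :=
    Classical.choose_spec (Groth.Agent.Lib.Helper3.RedGrp.mainGrp k G (redGrp G) (redGrpι G)).2.2
  mul_hom :=
    Classical.choose_spec (Groth.Agent.Lib.Helper3.RedGrp.mainGrp k G (redGrp G) (redGrpι G)).1

variable {G} {H : Over (Spec (CommRingCat.of k))} [GrpObj H]

/-- the homomorphism induced on the reduced subgroups -/
noncomputable def redGrpMap (u : G ⟶ H) : redGrp G ⟶ redGrp H :=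
  Over.homMk (redMap u.left) (by
    change redMap u.left ≫ redι H.left ≫ H.hom = redι G.left ≫ G.hom
    rw [← Category.assoc, redMap_ι, Category.assoc, Over.w u])

omit [PerfectField k] [GrpObj G] [GrpObj H] in
theorem redGrpMap_ι (u : G ⟶ H) : redGrpMap u ≫ redGrpι H = redGrpι G ≫ u := by
  apply Over.OverMorphism.ext
  exact redMap_ι u.left

instance (u : G ⟶ H) [IsMonHom u] : IsMonHom (redGrpMap u) := by
  haveI : IsMonHom (redGrpMap u ≫ redGrpι H) := by
    rw [redGrpMap_ι]; infer_instance
  exact isMonHom_of_comp_mono (redGrpMap u) (redGrpι H)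

end Groth.Agent.Lib.Helper24.HomArt
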