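import Mathlib
import Groth.Agent.Lib.Helper24.HomArt.Ker
import Groth.Agent.Lib.Helper24.HomArt.RedGrp
import Groth.Agent.Lib.Helper24.NFT.HomSurj
import Groth.Agent.Lib.Helper4.CentralizerClosed

/-!
# The core fppf factorisation of a homomorphism of group schemes over a perfect field

For a quasi-compact homomorphism `u : G ⟶ H` of group schemes locally of finite type over a
perfect field, `G_red ⟶ H` factors as a faithfully flat quasi-compact homomorphism
`f₁ : G_red ⟶ M` followed by a closed immersion, and the kernel pair of `f₁` is `G_red × N` with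
`N` a closed subscheme of `Ker u`.  Hence any property of `Ker u ⟶ Spec k` which is stable under
base change and composition, holds for closed immersions and descends along fpqc morphisms holds
for `G_red ⟶ H`.
-/

set_option autoImplicit false
universe u

open CategoryTheory MonoidalCategory CartesianMonoidalCategory MonObj GrpObj AlgebraicGeometry Limits

namespace Groth.Agent.Lib.Helper24.HomArt

open Groth.Agent.Lib.Helper24.NFT Groth.Agent.Lib.Helper24.HomogSep

variable {k : Type u} [Field k] [PerfectField k] {G H : Over (Spec (CommRingCat.of k))}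
  [GrpObj G] [GrpObj H]

theorem core (u : G ⟶ H) [IsMonHom u] [QuasiCompact u.left]
    (P : MorphismProperty Scheme.{u}) [P.IsStableUnderBaseChange] [P.IsStableUnderComposition]
    (hcl : ∀ {X Y : Scheme.{u}} (f : X ⟶ Y) [IsClosedImmersion f], P f)
    [P.DescendsAlong (@Surjective ⊓ @Flat ⊓ @QuasiCompact)]
    (hK : P (kerObj u).hom) : P ((redGrpι G).left ≫ u.left) := by
  let ur : redGrp G ⟶ redGrp H := redGrpMap u
  have hcomm : ur ≫ redGrpι H = redGrpι G ≫ u := redGrpMap_ι u
  haveI : QuasiCompact (ur.left ≫ (redGrpι H).left) := by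
    rw [← Over.comp_left, hcomm, Over.comp_left]; infer_instance
  haveI : QuasiCompact ur.left := QuasiCompact.of_comp ur.left (redGrpι H).left
  obtain ⟨M, inst, j₁, f₁, hj₁, hci, hfac, hdom, hqc⟩ :=
    Groth.Agent.Lib.Helper24.AntiAff.exists_image_subgroup (redGrp G) (redGrp H) ur
  haveI : Mono j₁.left := inferInstance
  haveI : Mono j₁ := Over.mono_of_mono_left j₁
  haveI hmon : IsMonHom f₁ := by
    refine ⟨?_, ?_⟩
    · rw [← cancel_mono j₁, Category.assoc, hfac, IsMonHom.one_hom, IsMonHom.one_hom]
    · rw [← cancel_mono j₁, Category.assoc, hfac, Category.assoc, IsMonHom.mul_hom,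
        IsMonHom.mul_hom, tensorHom_comp_tensorHom_assoc, hfac]
  haveI : IsReduced M.left := IsSchemeTheoreticallyDominant.isReduced f₁.left
  haveI : IsDominant f₁.left := inferInstance
  haveI : Flat f₁.left := flat_of_dominant_of_isReduced f₁ f₁.left.denseRange
  haveI : Surjective f₁.left := surjective_of_dominant f₁ f₁.left.denseRange
  -- the total closed immersion `M ⟶ H`
  let j : M ⟶ H := j₁ ≫ redGrpι H
  haveI : IsMonHom j := inferInstance
  haveI : IsClosedImmersion j.left := by
    change IsClosedImmersion (j₁ ≫ redGrpι H).left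
    rw [Over.comp_left]; infer_instance
  haveI : Mono j.left := inferInstance
  haveI : Mono j := Over.mono_of_mono_left j
  have hfj : f₁ ≫ j = redGrpι G ≫ u := by
    change f₁ ≫ j₁ ≫ redGrpι H = _
    rw [← Category.assoc, hfac, hcomm]
  -- the kernel of `f₁`
  let N : Over (Spec (CommRingCat.of k)) :=
    Over.mk (pullback.fst (redGrpι G).left (kerι u).left ≫ (redGrp G).hom)
  let h : N ⟶ redGrp G := Over.homMk (pullback.fst (redGrpι G).left (kerι u).left) rfl
  let n : N ⟶ kerObj u := Over.homMk (pullback.snd (redGrpι G).left (kerι u).left) (by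
    change pullback.snd (redGrpι G).left (kerι u).left ≫ (kerObj u).hom =
      pullback.fst (redGrpι G).left (kerι u).left ≫ (redGrp G).hom
    rw [← Over.w (kerι u), ← Over.w (redGrpι G), pullback.condition_assoc])
  have hn : h ≫ redGrpι G = n ≫ kerι u := by
    apply Over.OverMorphism.ext
    exact pullback.condition
  haveI : Mono h.left := inferInstanceAs (Mono (pullback.fst (redGrpι G).left (kerι u).left))
  haveI : Mono h := Over.mono_of_mono_left h
  have hker := (Groth.Agent.Lib.Helper4.KerPts.isKernel_iff _ _).1 (isKernel_kerι u)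
  have hk : AlgGrp.IsKernel h f₁ := by
    rw [Groth.Agent.Lib.Helper4.KerPts.isKernel_iff]
    refine ⟨?_, fun T x hx => ?_⟩
    · rw [← cancel_mono j, Category.assoc, hfj, reassoc_of% hn, hker.1, MonObj.comp_one,
        MonObj.one_comp]
    · have hx' : (x ≫ redGrpι G) ≫ u = 1 := by
        rw [Category.assoc, ← hfj, reassoc_of% hx, MonObj.one_comp]
      obtain ⟨z, hz, -⟩ := hker.2 T _ hx'
      let y : T ⟶ N := Over.homMk (pullback.lift x.left z.left (by
        rw [← Over.comp_left, ← Over.comp_left, hz])) (by
        change pullback.lift x.left z.left _ ≫ pullback.fst (redGrpι G).left (kerι u).left ≫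
          (redGrp G).hom = T.hom
        rw [pullback.lift_fst_assoc, Over.w x])
      have hy : y ≫ h = x := by
        apply Over.OverMorphism.ext
        exact pullback.lift_fst _ _ _
      refine ⟨y, hy, fun y' hy' => ?_⟩
      rw [← cancel_mono h, hy, hy']
  have sqK := (Groth.Agent.Lib.Helper4.QuotAffine.isPullback_of_isKernel h f₁ hk).map
    (Over.forget (Spec (CommRingCat.of k)))
  -- the property for `N`
  have hPn : P n.left := by
    haveI : IsClosedImmersion n.left :=
      inferInstanceAs (IsClosedImmersion (pullback.snd (redGrpι G).left (kerι u).left))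
    exact hcl _
  have hPN : P N.hom := by
    rw [← Over.w n]
    exact P.comp_mem _ _ hPn hK
  have hPfst : P ((Over.forget (Spec (CommRingCat.of k))).map (fst (redGrp G) N)) := by
    change P (pullback.fst (redGrp G).hom N.hom)
    exact MorphismProperty.pullback_fst _ _ hPN
  have hPf₁ : P f₁.left :=
    MorphismProperty.of_isPullback_of_descendsAlong (P := P)
      (Q := @Surjective ⊓ @Flat ⊓ @QuasiCompact) sqK
      ⟨⟨(inferInstance : Surjective f₁.left), (inferInstance : Flat f₁.left)⟩,
        (inferInstance : QuasiCompact f₁.left)⟩ hPfst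
  have hPj : P j.left := hcl _
  have : (redGrpι G).left ≫ u.left = f₁.left ≫ j.left := by
    rw [← Over.comp_left, ← Over.comp_left, hfj]
  rw [this]
  exact P.comp_mem _ _ hPf₁ hPj

end Groth.Agent.Lib.Helper24.HomArt
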