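import Mathlib
import Groth.Agent.Lib.Helper24.NFT.MonoClosed

/-!
# Topological transfer lemmas for universally open / closed morphisms
-/

set_option autoImplicit false
universe u

open CategoryTheory AlgebraicGeometry Limits

namespace Groth.Agent.Lib.Helper24.HomArt

/-- a surjective closed immersion is universally open (it is a universal homeomorphism) -/
theorem universallyOpen_of_surjective_isClosedImmersion {X Y : Scheme.{u}} (j : X ⟶ Y)
    [IsClosedImmersion j] [Surjective j] : UniversallyOpen j := by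
  constructor
  intro X' Y' i₁ i₂ f' h
  haveI : IsClosedImmersion f' :=
    MorphismProperty.of_isPullback (P := @IsClosedImmersion) h.flip inferInstance
  haveI : Surjective f' :=
    MorphismProperty.of_isPullback (P := @Surjective) h.flip inferInstance
  have hemb : Topology.IsClosedEmbedding f'.base := f'.isClosedEmbedding
  have hhom : IsHomeomorph f'.base :=
    ⟨f'.continuous, by
      intro U hU
      have h1 : IsClosed (f'.base '' Uᶜ) := hemb.isClosedMap _ hU.isClosed_compl
      have h2 : f'.base '' U = (f'.base '' Uᶜ)ᶜ := by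
        rw [Set.image_compl_eq ⟨hemb.injective, f'.surjective⟩, compl_compl]
      rw [h2]
      exact h1.isOpen_compl, ⟨hemb.injective, f'.surjective⟩⟩
  exact hhom.isOpenMap

/-- universal openness can be checked after a surjective universally open base change -/
theorem universallyOpen_of_isPullback_of_surjective {X Y X' Y' : Scheme.{u}} {u : X ⟶ Y}
    {u' : X' ⟶ Y'} {i' : X' ⟶ X} {i : Y' ⟶ Y} (sq : IsPullback u' i' i u) [Surjective i]
    [UniversallyOpen i] [UniversallyOpen u'] : UniversallyOpen u := by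
  constructor
  intro X₁ Y₁ i₁ i₂ f₁ h
  let p₁ : pullback i₂ i ⟶ Y₁ := pullback.fst i₂ i
  let p₂ : pullback i₂ i ⟶ Y' := pullback.snd i₂ i
  let q₁ : pullback f₁ p₁ ⟶ X₁ := pullback.fst f₁ p₁
  let f₂ : pullback f₁ p₁ ⟶ pullback i₂ i := pullback.snd f₁ p₁
  haveI : Surjective p₁ := inferInstance
  haveI : UniversallyOpen p₁ := inferInstance
  have sqA : IsPullback f₂ q₁ p₁ f₁ := (IsPullback.of_hasPullback f₁ p₁).flip
  have sqAB : IsPullback f₂ (q₁ ≫ i₁) (p₁ ≫ i₂) u := sqA.paste_vert h
  have hcond : p₁ ≫ i₂ = p₂ ≫ i := pullback.condition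
  rw [hcond] at sqAB
  let l : pullback f₁ p₁ ⟶ X' := sq.lift (f₂ ≫ p₂) (q₁ ≫ i₁) (by
    rw [Category.assoc, Category.assoc, ← hcond, ← h.w, ← Category.assoc, sqA.w,
      Category.assoc])
  have hl1 : l ≫ u' = f₂ ≫ p₂ := sq.lift_fst _ _ _
  have hl2 : l ≫ i' = q₁ ≫ i₁ := sq.lift_snd _ _ _
  have sqC : IsPullback f₂ l p₂ u' := by
    refine IsPullback.of_bot ?_ hl1.symm sq
    rw [hl2]
    exact sqAB
  haveI : UniversallyOpen f₂ :=
    MorphismProperty.of_isPullback (P := @UniversallyOpen) sqC.flip inferInstance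
  intro C hC
  have heq : f₁.base '' C = p₁.base '' (f₂.base '' (q₁.base ⁻¹' C)) := by
    apply Set.Subset.antisymm
    · rintro _ ⟨c, hc, rfl⟩
      obtain ⟨y₂, hy₂⟩ := (inferInstance : Surjective p₁).surj (f₁.base c)
      obtain ⟨x₂, hx1, hx2⟩ := Scheme.Pullback.exists_preimage_pullback (f := f₁) (g := p₁) c y₂
        hy₂.symm
      refine ⟨y₂, ⟨x₂, ?_, hx2⟩, hy₂⟩
      change q₁.base x₂ ∈ C
      rw [show q₁.base x₂ = c from hx1]
      exact hc
    · rintro _ ⟨_, ⟨x₂, hx₂, rfl⟩, rfl⟩
      refine ⟨q₁.base x₂, hx₂, ?_⟩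
      rw [← Scheme.Hom.comp_apply, ← Scheme.Hom.comp_apply, sqA.w]
  rw [heq]
  exact p₁.isOpenMap _ (f₂.isOpenMap _ (hC.preimage q₁.continuous))

end Groth.Agent.Lib.Helper24.HomArt
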