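import Mathlib
import Groth.Agent.Lib.Helper24.HomArt.Core
import Groth.Agent.Lib.Helper24.HomArt.Topo
import Groth.Agent.Lib.Helper4.SecDiscrete

/-!
# A homomorphism is proper iff its kernel is proper (SGA3 VI_B 1.4.1)
-/

set_option autoImplicit false
universe u

open CategoryTheory MonoidalCategory CartesianMonoidalCategory MonObj GrpObj AlgebraicGeometry Limits

namespace Groth.Agent.Lib.Helper24.HomArt

open Groth.Agent.Lib.Helper24.NFT Groth.Agent.Lib.Helper24.HomogSep

section field

variable {k : Type u} [Field k] {G H : Over (Spec (CommRingCat.of k))} [GrpObj G] [GrpObj H]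
  [LocallyOfFiniteType G.hom] [LocallyOfFiniteType H.hom]

theorem universallyClosed_of_ker_perfect [PerfectField k] (u : G ⟶ H) [IsMonHom u]
    [QuasiCompact u.left] (hK : UniversallyClosed (pullback.snd u.left η[H].left)) :
    UniversallyClosed u.left := by
  have hK' : UniversallyClosed (kerObj u).hom := by
    rw [kerObj_hom]
    haveI := hK
    change UniversallyClosed (pullback.snd u.left η[H].left ≫
      (𝟙_ (Over (Spec (CommRingCat.of k)))).hom)
    infer_instance
  haveI : UniversallyClosed ((redGrpι G).left ≫ u.left) :=
    core u @UniversallyClosed (fun f _ => inferInstance) hK'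
  exact UniversallyClosed.of_comp_surjective (redGrpι G).left u.left

theorem universallyClosed_of_ker_field (u : G ⟶ H) [IsMonHom u]
    [QuasiCompact u.left] (hK : UniversallyClosed (pullback.snd u.left η[H].left)) :
    UniversallyClosed u.left := by
  let K : Type u := AlgebraicClosure k
  let g : Spec (CommRingCat.of K) ⟶ Spec (CommRingCat.of k) :=
    Spec.map (CommRingCat.ofHom (algebraMap k K))
  let G' : Over (Spec (CommRingCat.of K)) := Red.bc g G
  let H' : Over (Spec (CommRingCat.of K)) := Red.bc g H
  let u' : G' ⟶ H' := (Over.pullback g).map u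
  haveI : IsMonHom u' := inferInstance
  have sq : IsPullback u'.left (pullback.fst G.hom g) (pullback.fst H.hom g) u.left :=
    isPullback_pullback_map g u
  haveI : LocallyOfFiniteType G'.hom :=
    inferInstanceAs (LocallyOfFiniteType (pullback.snd G.hom g))
  haveI : LocallyOfFiniteType H'.hom :=
    inferInstanceAs (LocallyOfFiniteType (pullback.snd H.hom g))
  haveI : QuasiCompact u'.left :=
    MorphismProperty.of_isPullback (P := @QuasiCompact) sq.flip inferInstance
  obtain ⟨φ, hφ⟩ := exists_isPullback_ker_bc g u
  have hK' : UniversallyClosed (pullback.snd u'.left η[H'].left) :=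
    MorphismProperty.of_isPullback (P := @UniversallyClosed) hφ hK
  have h1 : UniversallyClosed u'.left := universallyClosed_of_ker_perfect u' hK'
  haveI : Nonempty ↥(Spec (CommRingCat.of K)) := inferInstanceAs (Nonempty (PrimeSpectrum K))
  haveI : Surjective g := surjective_of_nonempty g
  haveI : Flat g := inferInstance
  refine MorphismProperty.of_isPullback_of_descendsAlong (P := @UniversallyClosed)
    (Q := @Surjective ⊓ @Flat ⊓ @QuasiCompact) sq ⟨⟨?_, ?_⟩, ?_⟩ h1
  · exact (inferInstance : Surjective (pullback.fst H.hom g))
  · exact (inferInstance : Flat (pullback.fst H.hom g))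
  · exact (inferInstance : QuasiCompact (pullback.fst H.hom g))

end field

section artinian

variable (A : Type u) [CommRing A] [IsArtinianRing A] [IsLocalRing A]
  (G H : Over (Spec (CommRingCat.of A))) [GrpObj G] [GrpObj H]
  [LocallyOfFiniteType G.hom] [LocallyOfFiniteType H.hom] (u : G ⟶ H) [IsMonHom u]

theorem universallyClosed_of_ker_artinian [QuasiCompact u.left]
    (hK : UniversallyClosed (pullback.snd u.left η[H].left)) : UniversallyClosed u.left := by
  let κ : Type u := IsLocalRing.ResidueField A
  let g : Spec (CommRingCat.of κ) ⟶ Spec (CommRingCat.of A) :=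
    Spec.map (CommRingCat.ofHom (IsLocalRing.residue A))
  haveI : IsClosedImmersion g :=
    IsClosedImmersion.spec_of_surjective _ IsLocalRing.residue_surjective
  haveI : Subsingleton ↥(Spec (CommRingCat.of A)) :=
    Groth.Agent.Lib.Helper24.PtFlat.subsingleton_spec_of_artinian_local A
  haveI : Nonempty ↥(Spec (CommRingCat.of κ)) := inferInstanceAs (Nonempty (PrimeSpectrum κ))
  haveI : Surjective g := by
    refine ⟨fun y => ?_⟩
    obtain ⟨x⟩ := (inferInstance : Nonempty ↥(Spec (CommRingCat.of κ)))
    exact ⟨x, Subsingleton.elim _ _⟩
  let Gk : Over (Spec (CommRingCat.of κ)) := Red.bc g G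
  let Hk : Over (Spec (CommRingCat.of κ)) := Red.bc g H
  let uk : Gk ⟶ Hk := (Over.pullback g).map u
  haveI : IsMonHom uk := inferInstance
  have sq : IsPullback uk.left (pullback.fst G.hom g) (pullback.fst H.hom g) u.left :=
    isPullback_pullback_map g u
  haveI : LocallyOfFiniteType Gk.hom :=
    inferInstanceAs (LocallyOfFiniteType (pullback.snd G.hom g))
  haveI : LocallyOfFiniteType Hk.hom :=
    inferInstanceAs (LocallyOfFiniteType (pullback.snd H.hom g))
  haveI : QuasiCompact uk.left :=
    MorphismProperty.of_isPullback (P := @QuasiCompact) sq.flip inferInstance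
  obtain ⟨φ, hφ⟩ := exists_isPullback_ker_bc g u
  have hK' : UniversallyClosed (pullback.snd uk.left η[Hk].left) :=
    MorphismProperty.of_isPullback (P := @UniversallyClosed) hφ hK
  haveI : UniversallyClosed uk.left := universallyClosed_of_ker_field uk hK'
  exact universallyClosed_of_isPullback_of_surjective sq

/-- the spectrum of an artinian local ring is discrete -/
theorem discreteTopology_spec_artinian : DiscreteTopology ↥(Spec (CommRingCat.of A)) :=
  inferInstanceAs (DiscreteTopology (PrimeSpectrum A))

theorem isSeparated_hom_artinian : IsSeparated u.left := by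
  haveI := discreteTopology_spec_artinian A
  haveI : IsSeparated G.hom := Groth.Agent.Lib.Helper4.SecDiscrete.main _ G
  haveI : IsSeparated (u.left ≫ H.hom) := by rw [Over.w u]; infer_instance
  exact IsSeparated.of_comp u.left H.hom

omit [IsArtinianRing A] [IsLocalRing A] [GrpObj G] [GrpObj H] [IsMonHom u] in
theorem locallyOfFiniteType_hom : LocallyOfFiniteType u.left := by
  haveI : LocallyOfFiniteType (u.left ≫ H.hom) := by rw [Over.w u]; infer_instance
  exact locallyOfFiniteType_of_comp u.left H.hom

/-- **SGA3 VI_B 1.4.1 (i) ⟺ (iii)** -/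
theorem isProper_hom_iff_artinian [QuasiCompact u.left] :
    IsProper u.left ↔ IsProper (pullback.snd u.left η[H].left) := by
  constructor
  · intro h
    infer_instance
  · intro h
    haveI := isSeparated_hom_artinian A G H u
    haveI := locallyOfFiniteType_hom A G H u
    haveI : UniversallyClosed u.left := universallyClosed_of_ker_artinian A G H u inferInstance
    exact {}

end artinian

end Groth.Agent.Lib.Helper24.HomArt
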