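import Mathlib
import Groth.Agent.Lib.Helper24.HomArt.Proper
import Groth.Agent.Lib.lead.LqfDescent

/-!
# A homomorphism is finite iff its kernel is discrete (SGA3 VI_B 1.4.1)
-/

set_option autoImplicit false
universe u

open CategoryTheory MonoidalCategory CartesianMonoidalCategory MonObj GrpObj AlgebraicGeometry Limits

namespace Groth.Agent.Lib.Helper24.HomArt

open Groth.Agent.Lib.Helper24.NFT Groth.Agent.Lib.Helper24.HomogSep

/-- locally quasi-finite and locally of finite type -/
def LqfLft : MorphismProperty Scheme.{u} :=
  fun _ _ f => LocallyQuasiFinite f ∧ LocallyOfFiniteType f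

instance : MorphismProperty.IsStableUnderBaseChange LqfLft.{u} where
  of_isPullback sq h :=
    ⟨MorphismProperty.of_isPullback (P := @LocallyQuasiFinite) sq h.1,
      MorphismProperty.of_isPullback (P := @LocallyOfFiniteType) sq h.2⟩

instance : MorphismProperty.IsStableUnderComposition LqfLft.{u} where
  comp_mem f g hf hg :=
    ⟨MorphismProperty.comp_mem @LocallyQuasiFinite f g hf.1 hg.1,
      MorphismProperty.comp_mem @LocallyOfFiniteType f g hf.2 hg.2⟩

instance : MorphismProperty.DescendsAlong LqfLft.{u} (@Surjective ⊓ @Flat ⊓ @QuasiCompact) where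
  of_isPullback {A X Y Z fst snd f g} sq hf hfst := by
    have hlft : LocallyOfFiniteType g :=
      MorphismProperty.of_isPullback_of_descendsAlong (P := @LocallyOfFiniteType)
        (Q := @Surjective ⊓ @Flat ⊓ @QuasiCompact) sq hf hfst.2
    haveI : Surjective f := hf.1.1
    haveI : LocallyQuasiFinite fst := hfst.1
    exact ⟨Groth.Agent.Lib.lead.LqfDescent.locallyQuasiFinite_of_isPullback_of_surjective sq, hlft⟩

section field

variable {k : Type u} [Field k] {G H : Over (Spec (CommRingCat.of k))} [GrpObj G] [GrpObj H]
  [LocallyOfFiniteType G.hom] [LocallyOfFiniteType H.hom]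

omit [GrpObj G] [LocallyOfFiniteType H.hom] in
theorem locallyOfFiniteType_hom' (u : G ⟶ H) : LocallyOfFiniteType u.left := by
  haveI : LocallyOfFiniteType (u.left ≫ H.hom) := by rw [Over.w u]; infer_instance
  exact locallyOfFiniteType_of_comp u.left H.hom

theorem lqf_of_ker_perfect [PerfectField k] (u : G ⟶ H) [IsMonHom u]
    [QuasiCompact u.left] (hK : LocallyQuasiFinite (pullback.snd u.left η[H].left)) :
    LocallyQuasiFinite u.left := by
  haveI := locallyOfFiniteType_hom' u
  have hK' : LqfLft (kerObj u).hom := by
    rw [kerObj_hom]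
    haveI := hK
    constructor
    · change LocallyQuasiFinite (pullback.snd u.left η[H].left ≫
        (𝟙_ (Over (Spec (CommRingCat.of k)))).hom)
      infer_instance
    · change LocallyOfFiniteType (pullback.snd u.left η[H].left ≫
        (𝟙_ (Over (Spec (CommRingCat.of k)))).hom)
      infer_instance
  have h := core u LqfLft
    (fun f _ => ⟨inferInstance, inferInstance⟩) hK'
  haveI : LocallyQuasiFinite ((redGrpι G).left ≫ u.left) := h.1
  rw [locallyQuasiFinite_iff_isDiscrete_preimage_singleton]
  intro h₀
  have h1 := ((redGrpι G).left ≫ u.left).isDiscrete_preimage_singleton h₀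
  have heq : u.left.base ⁻¹' {h₀} =
      (redGrpι G).left.base '' (((redGrpι G).left ≫ u.left).base ⁻¹' {h₀}) := by
    ext x
    constructor
    · intro hx
      obtain ⟨x', rfl⟩ := (inferInstance : Surjective (redGrpι G).left).surj x
      exact ⟨x', hx, rfl⟩
    · rintro ⟨x', hx', rfl⟩
      exact hx'
  rw [heq]
  exact h1.image (redGrpι G).left.isClosedEmbedding.isInducing

theorem lqf_of_ker_field (u : G ⟶ H) [IsMonHom u]
    [QuasiCompact u.left] (hK : LocallyQuasiFinite (pullback.snd u.left η[H].left)) :
    LocallyQuasiFinite u.left := by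
  let K : Type u := AlgebraicClosure k
  let g : Spec (CommRingCat.of K) ⟶ Spec (CommRingCat.of k) :=
    Spec.map (CommRingCat.ofHom (algebraMap k K))
  let G' : Over (Spec (CommRingCat.of K)) := Red.bc g G
  let H' : Over (Spec (CommRingCat.of K)) := Red.bc g H
  let u' : G' ⟶ H' := (Over.pullback g).map u
  haveI : IsMonHom u' := inferInstance
  have sq : IsPullback u'.left (pullback.fst G.hom g) (pullback.fst H.hom g) u.left :=
    isPullback_pullback_map g u
  haveI : LocallyOfFiniteType G'.hom :=
    inferInstanceAs (LocallyOfFiniteType (pullback.snd G.hom g))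
  haveI : LocallyOfFiniteType H'.hom :=
    inferInstanceAs (LocallyOfFiniteType (pullback.snd H.hom g))
  haveI : QuasiCompact u'.left :=
    MorphismProperty.of_isPullback (P := @QuasiCompact) sq.flip inferInstance
  obtain ⟨φ, hφ⟩ := exists_isPullback_ker_bc g u
  have hK' : LocallyQuasiFinite (pullback.snd u'.left η[H'].left) :=
    MorphismProperty.of_isPullback (P := @LocallyQuasiFinite) hφ hK
  haveI : LocallyQuasiFinite u'.left := lqf_of_ker_perfect u' hK'
  haveI : Nonempty ↥(Spec (CommRingCat.of K)) := inferInstanceAs (Nonempty (PrimeSpectrum K))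
  haveI : Surjective g := surjective_of_nonempty g
  haveI : Surjective (pullback.fst H.hom g) := inferInstance
  haveI := locallyOfFiniteType_hom' u
  exact Groth.Agent.Lib.lead.LqfDescent.locallyQuasiFinite_of_isPullback_of_surjective sq

end field

section artinian

variable (A : Type u) [CommRing A] [IsArtinianRing A] [IsLocalRing A]
  (G H : Over (Spec (CommRingCat.of A))) [GrpObj G] [GrpObj H]
  [LocallyOfFiniteType G.hom] [LocallyOfFiniteType H.hom] (u : G ⟶ H) [IsMonHom u]

theorem lqf_of_ker_artinian [QuasiCompact u.left]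
    (hK : LocallyQuasiFinite (pullback.snd u.left η[H].left)) : LocallyQuasiFinite u.left := by
  let κ : Type u := IsLocalRing.ResidueField A
  let g : Spec (CommRingCat.of κ) ⟶ Spec (CommRingCat.of A) :=
    Spec.map (CommRingCat.ofHom (IsLocalRing.residue A))
  haveI : Subsingleton ↥(Spec (CommRingCat.of A)) :=
    Groth.Agent.Lib.Helper24.PtFlat.subsingleton_spec_of_artinian_local A
  haveI : Nonempty ↥(Spec (CommRingCat.of κ)) := inferInstanceAs (Nonempty (PrimeSpectrum κ))
  haveI : Surjective g := by
    refine ⟨fun y => ?_⟩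
    obtain ⟨x⟩ := (inferInstance : Nonempty ↥(Spec (CommRingCat.of κ)))
    exact ⟨x, Subsingleton.elim _ _⟩
  let Gk : Over (Spec (CommRingCat.of κ)) := Red.bc g G
  let Hk : Over (Spec (CommRingCat.of κ)) := Red.bc g H
  let uk : Gk ⟶ Hk := (Over.pullback g).map u
  haveI : IsMonHom uk := inferInstance
  have sq : IsPullback uk.left (pullback.fst G.hom g) (pullback.fst H.hom g) u.left :=
    isPullback_pullback_map g u
  haveI : LocallyOfFiniteType Gk.hom :=
    inferInstanceAs (LocallyOfFiniteType (pullback.snd G.hom g))
  haveI : LocallyOfFiniteType Hk.hom :=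
    inferInstanceAs (LocallyOfFiniteType (pullback.snd H.hom g))
  haveI : QuasiCompact uk.left :=
    MorphismProperty.of_isPullback (P := @QuasiCompact) sq.flip inferInstance
  obtain ⟨φ, hφ⟩ := exists_isPullback_ker_bc g u
  have hK' : LocallyQuasiFinite (pullback.snd uk.left η[Hk].left) :=
    MorphismProperty.of_isPullback (P := @LocallyQuasiFinite) hφ hK
  haveI : LocallyQuasiFinite uk.left := lqf_of_ker_field uk hK'
  haveI : Surjective (pullback.fst H.hom g) := inferInstance
  haveI := locallyOfFiniteType_hom A G H u
  exact Groth.Agent.Lib.lead.LqfDescent.locallyQuasiFinite_of_isPullback_of_surjective sq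

/-- **SGA3 VI_B 1.4.1 (iii) ⟺ (v)** -/
theorem isFinite_hom_iff_artinian [QuasiCompact u.left] :
    IsFinite u.left ↔ DiscreteTopology ↥(pullback u.left η[H].left) := by
  haveI : IsLocallyArtinian (Spec (CommRingCat.of A)) :=
    Scheme.isLocallyArtinianScheme_Spec.2 (inferInstanceAs (IsArtinianRing A))
  haveI : IsLocallyArtinian (𝟙_ (Over (Spec (CommRingCat.of A)))).left :=
    inferInstanceAs (IsLocallyArtinian (Spec (CommRingCat.of A)))
  haveI := locallyOfFiniteType_hom A G H u
  constructor
  · intro h
    haveI : IsFinite (pullback.snd u.left η[H].left) := inferInstance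
    haveI : IsLocallyArtinian (pullback u.left η[H].left) :=
      IsLocallyArtinian.of_locallyQuasiFinite (pullback.snd u.left η[H].left)
    infer_instance
  · intro h
    have hlqf : LocallyQuasiFinite (pullback.snd u.left η[H].left) := by
      rw [locallyQuasiFinite_iff_isDiscrete_preimage_singleton]
      intro x
      exact IsDiscrete.univ.mono (Set.subset_univ _)
    haveI := hlqf
    haveI : IsFinite (pullback.snd u.left η[H].left) := IsFinite.of_locallyQuasiFinite _
    haveI : IsProper u.left := (isProper_hom_iff_artinian A G H u).2 inferInstance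
    haveI : LocallyQuasiFinite u.left := lqf_of_ker_artinian A G H u hlqf
    exact (IsFinite.iff_isProper_and_locallyQuasiFinite _).2 ⟨inferInstance, inferInstance⟩

end artinian

end Groth.Agent.Lib.Helper24.HomArt
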