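import Mathlib
import Groth.Agent.Lib.Helper24.HomArt.Topo
import Groth.Agent.Lib.Helper24.HomArt.RedGrp
import Groth.Agent.Lib.Helper24.NFT.HomSurj
import Groth.Agent.Lib.Helper24.NFT.MonoClosed
import Groth.Agent.Lib.Helper4.CentralizerClosed

/-!
# Open homomorphisms of group schemes over an artinian local ring are universally open
(SGA3 VI_B 1.2–1.3)
-/

set_option autoImplicit false
universe u

open CategoryTheory MonoidalCategory CartesianMonoidalCategory MonObj GrpObj AlgebraicGeometry Limits

namespace Groth.Agent.Lib.Helper24.HomArt

open Groth.Agent.Lib.Helper24.NFT Groth.Agent.Lib.Helper24.HomogSep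

section field

variable {k : Type u} [Field k] {G H : Over (Spec (CommRingCat.of k))} [GrpObj G] [GrpObj H]

/-- a homomorphism to a reduced group whose image contains a nonempty open is flat -/
theorem flat_of_open_subset_range [IsReduced H.left] (u : G ⟶ H) [IsMonHom u] (W : Set H.left)
    (hW : IsOpen W) (hne : W.Nonempty) (hsub : W ⊆ Set.range u.left.base) : Flat u.left := by
  obtain ⟨w, hw⟩ := hne
  obtain ⟨ξ, hξw, hξ⟩ := exists_generic_specializes w
  have hξW : ξ ∈ W := hξw.mem_open hW hw
  obtain ⟨g₀, hg₀⟩ := hsub hξW
  have hmax : ∀ ν : H.left, ν ⤳ u.left.base g₀ → ν = u.left.base g₀ := by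
    rw [hg₀]
    exact fun ν h =>
      eq_of_specializes_generic (irreducibleComponent_mem_irreducibleComponents _) hξ h
  have hfield := isField_stalk_of_maximal (u.left.base g₀) hmax
  exact Groth.Agent.Lib.Helper24.PtFlat.flat_hom_of_flat_at_point u g₀
    (flat_of_isField _ hfield)

omit [GrpObj H] in
/-- the range of a homomorphism is nonempty -/
theorem range_nonempty_hom (u : G ⟶ H) : (Set.range u.left.base).Nonempty := by
  have hne : Nonempty ↥(𝟙_ (Over (Spec (CommRingCat.of k)))).left :=
    inferInstanceAs (Nonempty (PrimeSpectrum k))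
  obtain ⟨pt⟩ := hne
  exact ⟨_, η[G].left.base pt, rfl⟩

/-- perfect base field: a homomorphism with open image is universally open -/
theorem universallyOpen_of_isOpen_range_perfect [PerfectField k] [LocallyOfFiniteType G.hom]
    [LocallyOfFiniteType H.hom] (u : G ⟶ H) [IsMonHom u]
    (hu : IsOpen (Set.range u.left.base)) : UniversallyOpen u.left := by
  let ur : redGrp G ⟶ redGrp H := redGrpMap u
  have hcomm : ur.left ≫ (redGrpι H).left = (redGrpι G).left ≫ u.left := by
    rw [← Over.comp_left, ← Over.comp_left, redGrpMap_ι]
  have hrange : Set.range ur.left.base = (redGrpι H).left.base ⁻¹' Set.range u.left.base := by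
    ext y
    constructor
    · rintro ⟨x, rfl⟩
      refine ⟨(redGrpι G).left.base x, ?_⟩
      rw [← Scheme.Hom.comp_apply, ← hcomm, Scheme.Hom.comp_apply]
    · rintro ⟨x, hx⟩
      obtain ⟨x', rfl⟩ := (inferInstance : Surjective (redGrpι G).left).surj x
      refine ⟨x', ?_⟩
      apply (redGrpι H).left.isClosedEmbedding.injective
      rw [← Scheme.Hom.comp_apply, hcomm, Scheme.Hom.comp_apply]
      exact hx
  have hopen : IsOpen (Set.range ur.left.base) := by
    rw [hrange]; exact hu.preimage (redGrpι H).left.continuous
  haveI : Flat ur.left :=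
    flat_of_open_subset_range ur _ hopen (range_nonempty_hom ur) subset_rfl
  haveI : LocallyOfFinitePresentation ur.left :=
    Groth.Agent.Lib.Helper4.CentralizerClosed.lfp_of_comp ur.left (redGrp H).hom
      (by rw [Over.w ur]; infer_instance) inferInstance
  haveI : UniversallyOpen ur.left := UniversallyOpen.of_flat _
  haveI : UniversallyOpen (redGrpι H).left := universallyOpen_of_surjective_isClosedImmersion _
  haveI : UniversallyOpen ((redGrpι G).left ≫ u.left) := by
    rw [← hcomm]; infer_instance
  exact Groth.Agent.Lib.Helper4.ActShear2.universallyOpen_of_comp_surjective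
    (redGrpι G).left u.left

/-- arbitrary base field -/
theorem universallyOpen_of_isOpen_range_field [LocallyOfFiniteType G.hom]
    [LocallyOfFiniteType H.hom] (u : G ⟶ H) [IsMonHom u]
    (hu : IsOpen (Set.range u.left.base)) : UniversallyOpen u.left := by
  let K : Type u := AlgebraicClosure k
  let g : Spec (CommRingCat.of K) ⟶ Spec (CommRingCat.of k) :=
    Spec.map (CommRingCat.ofHom (algebraMap k K))
  let G' : Over (Spec (CommRingCat.of K)) := Red.bc g G
  let H' : Over (Spec (CommRingCat.of K)) := Red.bc g H
  let u' : G' ⟶ H' := (Over.pullback g).map u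
  haveI : IsMonHom u' := inferInstance
  have sq : IsPullback u'.left (pullback.fst G.hom g) (pullback.fst H.hom g) u.left :=
    isPullback_pullback_map g u
  haveI : LocallyOfFiniteType G'.hom :=
    inferInstanceAs (LocallyOfFiniteType (pullback.snd G.hom g))
  haveI : LocallyOfFiniteType H'.hom :=
    inferInstanceAs (LocallyOfFiniteType (pullback.snd H.hom g))
  have hrange : Set.range u'.left.base = (pullback.fst H.hom g).base ⁻¹' Set.range u.left.base := by
    have := Scheme.image_preimage_eq_of_isPullback sq.flip Set.univ
    rwa [Set.preimage_univ, Set.image_univ, Set.image_univ] at this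
  have hopen : IsOpen (Set.range u'.left.base) := by
    rw [hrange]; exact hu.preimage (pullback.fst H.hom g).continuous
  have h1 : UniversallyOpen u'.left := universallyOpen_of_isOpen_range_perfect u' hopen
  haveI : Nonempty ↥(Spec (CommRingCat.of K)) := inferInstanceAs (Nonempty (PrimeSpectrum K))
  haveI : Surjective g := surjective_of_nonempty g
  haveI : Flat g := inferInstance
  refine MorphismProperty.of_isPullback_of_descendsAlong (P := @UniversallyOpen)
    (Q := @Surjective ⊓ @Flat ⊓ @QuasiCompact) sq ⟨⟨?_, ?_⟩, ?_⟩ h1
  · exact (inferInstance : Surjective (pullback.fst H.hom g))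
  · exact (inferInstance : Flat (pullback.fst H.hom g))
  · exact (inferInstance : QuasiCompact (pullback.fst H.hom g))

end field

/-- **SGA3 VI_B 1.3 (ii) ⇒ (i)**: a homomorphism with open image between group schemes locally of
finite type over an artinian local ring is universally open. -/
theorem universallyOpen_of_isOpen_range_artinian (A : Type u) [CommRing A] [IsArtinianRing A]
    [IsLocalRing A] (G H : Over (Spec (CommRingCat.of A))) [GrpObj G] [GrpObj H]
    [LocallyOfFiniteType G.hom] [LocallyOfFiniteType H.hom] (u : G ⟶ H) [IsMonHom u]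
    (hu : IsOpen (Set.range u.left.base)) : UniversallyOpen u.left := by
  let κ : Type u := IsLocalRing.ResidueField A
  let g : Spec (CommRingCat.of κ) ⟶ Spec (CommRingCat.of A) :=
    Spec.map (CommRingCat.ofHom (IsLocalRing.residue A))
  haveI : IsClosedImmersion g :=
    IsClosedImmersion.spec_of_surjective _ IsLocalRing.residue_surjective
  haveI : Subsingleton ↥(Spec (CommRingCat.of A)) :=
    Groth.Agent.Lib.Helper24.PtFlat.subsingleton_spec_of_artinian_local A
  haveI : Nonempty ↥(Spec (CommRingCat.of κ)) := inferInstanceAs (Nonempty (PrimeSpectrum κ))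
  haveI : Surjective g := by
    refine ⟨fun y => ?_⟩
    obtain ⟨x⟩ := (inferInstance : Nonempty ↥(Spec (CommRingCat.of κ)))
    exact ⟨x, Subsingleton.elim _ _⟩
  let Gk : Over (Spec (CommRingCat.of κ)) := Red.bc g G
  let Hk : Over (Spec (CommRingCat.of κ)) := Red.bc g H
  let uk : Gk ⟶ Hk := (Over.pullback g).map u
  haveI : IsMonHom uk := inferInstance
  have sq : IsPullback uk.left (pullback.fst G.hom g) (pullback.fst H.hom g) u.left :=
    isPullback_pullback_map g u
  haveI : LocallyOfFiniteType Gk.hom :=
    inferInstanceAs (LocallyOfFiniteType (pullback.snd G.hom g))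
  haveI : LocallyOfFiniteType Hk.hom :=
    inferInstanceAs (LocallyOfFiniteType (pullback.snd H.hom g))
  have hrange : Set.range uk.left.base = (pullback.fst H.hom g).base ⁻¹' Set.range u.left.base := by
    have := Scheme.image_preimage_eq_of_isPullback sq.flip Set.univ
    rwa [Set.preimage_univ, Set.image_univ, Set.image_univ] at this
  have hopen : IsOpen (Set.range uk.left.base) := by
    rw [hrange]; exact hu.preimage (pullback.fst H.hom g).continuous
  haveI : UniversallyOpen uk.left := universallyOpen_of_isOpen_range_field uk hopen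
  haveI : UniversallyOpen (pullback.fst H.hom g) :=
    universallyOpen_of_surjective_isClosedImmersion _
  exact universallyOpen_of_isPullback_of_surjective sq

end Groth.Agent.Lib.Helper24.HomArt
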